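import Cfsg.Agent.Lib.Helper4.TIQ.Defs
import Cfsg.Agent.Lib.Helper1.Commutator

/-!
# Project TIQ (S4151): package [COPB]
-/

set_option autoImplicit false

namespace Cfsg.Agent.Lib.Helper4.TIQ

universe u

/-- [COPB] from [CYC], [AB], [ZSYL], [TRF], [KFACTS]. -/
theorem pkgCopB_of (hCyc : PkgCyc.{u}) (hAb : PkgAb.{u}) (hZSyl : PkgZSyl.{u})
    (hTrf : PkgTrf.{u}) (hKF : PkgKFacts.{u}) : PkgCopB.{u} := by
  intro G _ _ H Q hQ hcop hZ
  have := hZ
  obtain ⟨hKH, hHK, hQK⟩ := hKF G H Q hQ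
  have hKK : ⁅⁅H, Q⁆, Q⁆ = ⁅H, Q⁆ :=
    Cfsg.Agent.Lib.Helper1.coprime_commutator_commutator Q H hQ hcop (Or.inr inferInstance)
  generalize hKdef : ⁅H, Q⁆ = K at hKH hHK hQK hKK ⊢
  have hcopK : (Nat.card Q).Coprime (Nat.card K) :=
    hcop.coprime_dvd_right (Subgroup.card_dvd_of_le hKH)
  have : IsZGroup ↥K :=
    IsZGroup.of_injective (f := Subgroup.inclusion hKH) (Subgroup.inclusion_injective hKH)
  rw [eq_bot_iff]
  intro c hc
  rw [Subgroup.mem_bot]
  by_contra hc1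
  obtain ⟨⟨hcH, hcQ⟩, hcK⟩ := hc
  have hcKK : c ∈ ⁅K, K⁆ := hAb G K Q hQK hcopK hKK ⟨hcK, hcQ⟩
  have hord : orderOf c ≠ 1 := by rwa [Ne, orderOf_eq_one_iff]
  obtain ⟨p, hp, hpc⟩ := Nat.exists_prime_and_dvd hord
  have := Fact.mk hp
  have hc'ord : orderOf (c ^ (orderOf c / p)) = p :=
    orderOf_pow_orderOf_div (orderOf_pos c).ne' hpc
  generalize hc'def : c ^ (orderOf c / p) = c' at hc'ord
  have hc'KK : c' ∈ ⁅K, K⁆ := hc'def ▸ Subgroup.pow_mem _ hcKK _
  have hc'Q : c' ∈ Subgroup.centralizer (Q : Set G) := hc'def ▸ Subgroup.pow_mem _ hcQ _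
  have hc'K : c' ∈ K := hc'def ▸ Subgroup.pow_mem _ hcK _
  have hc'ne : c' ≠ 1 := by
    intro h
    rw [h, orderOf_one] at hc'ord
    exact hp.one_lt.ne hc'ord
  have hc'p : c' ^ p = 1 := by rw [← hc'ord]; exact pow_orderOf_eq_one c'
  -- the element of `↥K`
  have hmemc : (⟨c', hc'K⟩ : ↥K) ∈ commutator ↥K := by
    have h := Subgroup.map_subtype_commutator K
    rw [← h] at hc'KK
    obtain ⟨y, hy, hyc⟩ := hc'KK
    have : y = ⟨c', hc'K⟩ := Subtype.ext hyc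
    rwa [← this]
  have hordK : orderOf (⟨c', hc'K⟩ : ↥K) = p := by
    rw [← hc'ord]
    exact (Subgroup.orderOf_coe (⟨c', hc'K⟩ : ↥K)).symm ▸ rfl
  have hpdvd : p ∣ Nat.card (commutator ↥K) := by
    have h1 : orderOf (⟨⟨c', hc'K⟩, hmemc⟩ : ↥(commutator ↥K)) = p := by
      rw [← hordK]
      exact (Subgroup.orderOf_coe (⟨⟨c', hc'K⟩, hmemc⟩ : ↥(commutator ↥K))).symm ▸ rfl
    rw [← h1]
    exact orderOf_dvd_natCard _
  have hpK : p ∣ Nat.card K := by
    rw [← hordK]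
    exact orderOf_dvd_natCard _
  obtain ⟨P⟩ : Nonempty (Sylow p ↥K) := inferInstance
  obtain ⟨hPle, hPn⟩ := hZSyl ↥K p P hpdvd
  -- characterization of `P' = P.map K.subtype`
  have hchar : ∀ g : G, g ∈ (P : Subgroup ↥K).map K.subtype ↔ (g ∈ K ∧ ∃ n : ℕ, g ^ (p ^ n) = 1) := by
    intro g
    constructor
    · rintro ⟨y, hy, rfl⟩
      refine ⟨y.2, ?_⟩
      obtain ⟨n, hn⟩ := P.isPGroup' ⟨y, hy⟩
      refine ⟨n, ?_⟩
      have h2 := congrArg (fun t : ↥(P : Subgroup ↥K) => ((t : ↥K) : G)) hn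
      simpa using h2
    · rintro ⟨hgK, n, hn⟩
      have hz : IsPGroup p (Subgroup.zpowers (⟨g, hgK⟩ : ↥K)) := by
        rintro ⟨t, ht⟩
        obtain ⟨k, rfl⟩ := Subgroup.mem_zpowers_iff.mp ht
        refine ⟨n, Subtype.ext ?_⟩
        apply Subtype.ext
        simp only [Subgroup.coe_pow, Subgroup.coe_zpow, Subgroup.coe_one]
        rw [← zpow_natCast, ← zpow_mul, mul_comm, zpow_mul, zpow_natCast, hn, one_zpow]
      obtain ⟨P2, hP2⟩ := hz.exists_le_sylow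
      have := Sylow.unique_of_normal P hPn
      have hPP : P2 = P := Subsingleton.elim _ _
      rw [hPP] at hP2
      exact ⟨⟨g, hgK⟩, hP2 (Subgroup.mem_zpowers _), rfl⟩
  have hconj : ∀ t : G, t ∈ Subgroup.normalizer (K : Set G) → ∀ x ∈ (P : Subgroup ↥K).map K.subtype,
      t * x * t⁻¹ ∈ (P : Subgroup ↥K).map K.subtype := by
    intro t ht x hx
    rw [hchar] at hx ⊢
    obtain ⟨hxK, n, hn⟩ := hx
    refine ⟨(Subgroup.mem_normalizer_iff.mp ht x).mp hxK, n, ?_⟩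
    rw [conj_pow, hn, mul_one, mul_inv_cancel]
  have hQP' : Q ≤ Subgroup.normalizer (((P : Subgroup ↥K).map K.subtype : Subgroup G) : Set G) := by
    intro q hq
    rw [Subgroup.mem_normalizer_iff]
    intro x
    constructor
    · exact hconj q (hQK hq) x
    · intro hx
      have := hconj q⁻¹ (Subgroup.inv_mem _ (hQK hq)) _ hx
      simpa [mul_assoc] using this
  have hP'p : IsPGroup p ↥((P : Subgroup ↥K).map K.subtype) := P.isPGroup'.map K.subtype
  have hP'c : IsCyclic ↥((P : Subgroup ↥K).map K.subtype) := by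
    have e := (P : Subgroup ↥K).equivMapOfInjective K.subtype K.subtype_injective
    exact isCyclic_of_surjective e e.surjective
  have hc'P' : c' ∈ (P : Subgroup ↥K).map K.subtype := by
    rw [hchar]
    exact ⟨hc'K, 1, by rwa [pow_one]⟩
  have hcopp : (Nat.card Q).Coprime p := hcopK.coprime_dvd_right hpK
  have hQcent : Q ≤ Subgroup.centralizer (((P : Subgroup ↥K).map K.subtype : Subgroup G) : Set G) :=
    hCyc G _ Q p hP'p hP'c hQP' hcopp
      ⟨c', hc'P', hc'ne, fun a ha => Subgroup.mem_centralizer_iff.mp hc'Q a ha⟩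
  -- `K = ⁅K, Q⁆` centralizes `P'`
  have hKcent : K ≤ Subgroup.centralizer (((P : Subgroup ↥K).map K.subtype : Subgroup G) : Set G) := by
    refine hKK.ge.trans ?_
    rw [Subgroup.commutator_le]
    intro k hk q hq
    rw [Subgroup.mem_centralizer_iff]
    intro x hx
    have hy : k⁻¹ * x * k ∈ (P : Subgroup ↥K).map K.subtype := by
      have := hconj k⁻¹ (Subgroup.le_normalizer (Subgroup.inv_mem _ hk)) x hx
      simpa using this
    have hqx : Commute q x :=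
      (Subgroup.mem_centralizer_iff.mp (hQcent hq) x hx).symm
    have hqy : Commute q (k⁻¹ * x * k) :=
      (Subgroup.mem_centralizer_iff.mp (hQcent hq) _ hy).symm
    rw [commutatorElement_def]
    calc x * (k * q * k⁻¹ * q⁻¹) = k * ((k⁻¹ * x * k) * q) * k⁻¹ * q⁻¹ := by group
      _ = k * (q * (k⁻¹ * x * k)) * k⁻¹ * q⁻¹ := by rw [hqy.eq]
      _ = k * q * k⁻¹ * (x * q⁻¹) := by group
      _ = k * q * k⁻¹ * (q⁻¹ * x) := by rw [hqx.inv_left.eq]
      _ = k * q * k⁻¹ * q⁻¹ * x := by group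
  have hcenter : (P : Subgroup ↥K) ≤ Subgroup.center ↥K := by
    intro z hz
    rw [Subgroup.mem_center_iff]
    intro g
    apply Subtype.ext
    have h1 : (z : G) ∈ (P : Subgroup ↥K).map K.subtype := ⟨z, hz, rfl⟩
    have := Subgroup.mem_centralizer_iff.mp (hKcent g.2) (z : G) h1
    simpa using this.symm
  have hbot : (P : Subgroup ↥K) = ⊥ := hTrf ↥K p P hcenter hPle
  obtain ⟨y, hy, hyc⟩ := hc'P'
  have hy' : y ∈ (P : Subgroup ↥K) := hy
  rw [hbot, Subgroup.mem_bot] at hy'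
  apply hc'ne
  rw [← hyc, hy']
  rfl

end Cfsg.Agent.Lib.Helper4.TIQ
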